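import Cfsg.Agent.H11.CIT.Lift
import Cfsg.Agent.H11.CIT.Interface
import Cfsg.Agent.H3.KleinFour
import Cfsg.Agent.H16.OddOrder
import Cfsg.Agent.H59.CIT.ElemAbelian

/-!
Groups in which every noncyclic subgroup contains its centraliser: in a simple such group the
centraliser of every involution is a 2-group.
-/

set_option autoImplicit false
set_option linter.style.haveILetI false
set_option linter.unusedSectionVars false

namespace H59.SCN

open Subgroup

universe u

/-- Every noncyclic subgroup contains its centraliser. -/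
def SelfCent (G : Type*) [Group G] : Prop :=
  ∀ H : Subgroup G, ¬ IsCyclic ↥H → centralizer (H : Set G) ≤ H

variable {G : Type u} [Group G] [Finite G]

theorem not_isCyclic_of_inverted {s w : G} (hw : orderOf w ≠ 2) (hw1 : w ≠ 1)
    (hi : s * w * s⁻¹ = w⁻¹) : ¬ IsCyclic ↥(closure ({s, w} : Set G)) := by
  intro hc
  haveI := hc
  letI := IsCyclic.commGroup (α := closure ({s, w} : Set G))
  have h : s * w = w * s :=
    congrArg Subtype.val (mul_comm (⟨s, subset_closure (Or.inl rfl)⟩ : closure ({s, w} : Set G))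
      ⟨w, subset_closure (Or.inr rfl)⟩)
  rw [h, mul_inv_cancel_right] at hi
  exact hw (orderOf_eq_prime (by rw [sq]; nth_rw 2 [hi]; exact mul_inv_cancel w) hw1)

/-- An involution inverting an element of odd order has no further involution centralising both. -/
theorem SelfCent.no_inverted (h : SelfCent G) {t s w : G} (ht : orderOf t = 2) (hs : orderOf s = 2)
    (hst : Commute s t) (hwt : Commute w t) (hodd : Odd (orderOf w)) (hw1 : w ≠ 1)
    (hne : s ≠ t) : s * w * s⁻¹ ≠ w⁻¹ := by
  intro hi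
  set H := closure ({s, w} : Set G) with hH
  have hncy : ¬ IsCyclic ↥H :=
    not_isCyclic_of_inverted (fun h2 => by rw [h2] at hodd; exact Nat.not_odd_iff_even.2 even_two hodd)
      hw1 hi
  have htH : t ∈ H := by
    refine h H hncy (mem_centralizer_iff.2 fun x hx => ?_)
    induction hx using closure_induction with
    | mem x hx => rcases hx with rfl | rfl; exacts [hst, hwt]
    | one => simp
    | mul a b _ _ ha hb => exact (Commute.mul_left ha hb).eq
    | inv a _ ha => exact (Commute.inv_left ha).eq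
  -- the elements of `H`
  have hK : H ≤ normalizer (zpowers w : Set G) := by
    rw [hH, closure_le]
    rintro x (rfl | rfl)
    · refine mem_normalizer_iff.2 fun y => ⟨?_, ?_⟩
      · rintro ⟨i, rfl⟩
        exact ⟨-i, by simp only; rw [← conj_zpow, hi, inv_zpow, zpow_neg]⟩
      · rintro ⟨i, hi'⟩
        refine ⟨-i, ?_⟩
        simp only at hi' ⊢
        have h2 : x * w ^ (-i) * x⁻¹ = x * y * x⁻¹ := by
          rw [← hi', ← conj_zpow, hi, inv_zpow, zpow_neg, inv_inv]
        exact mul_left_cancel (mul_right_cancel h2)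
    · exact le_normalizer (mem_zpowers x)
  have hsub : H ≤ zpowers s ⊔ zpowers w := by
    rw [hH, closure_le]
    rintro x (rfl | rfl)
    · exact mem_sup_left (mem_zpowers x)
    · exact mem_sup_right (mem_zpowers x)
  have htm := hsub htH
  rw [← SetLike.mem_coe, coe_mul_of_left_le_normalizer_right (zpowers s) (zpowers w)
    (le_trans (zpowers_le.2 (subset_closure (Or.inl rfl))) hK)] at htm
  obtain ⟨a, ⟨i, rfl⟩, b, ⟨j, rfl⟩, hab⟩ := htm
  simp only at hab
  have hs2 : s ^ (2 : ℤ) = 1 := by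
    rw [zpow_two, ← sq, ← hs, pow_orderOf_eq_one]
  rcases Int.even_or_odd i with ⟨k, hk⟩ | ⟨k, hk⟩
  · rw [hk, ← two_mul, zpow_mul, hs2, one_zpow, one_mul] at hab
    have hd : orderOf t ∣ orderOf w := orderOf_dvd_of_mem_zpowers ⟨j, hab⟩
    rw [ht] at hd
    exact Nat.not_even_iff_odd.2 hodd (even_iff_two_dvd.2 hd)
  · rw [hk, zpow_add, zpow_mul, hs2, one_zpow, one_mul, zpow_one] at hab
    have hcs : Commute w (s * w ^ j) := hab ▸ hwt
    have : Commute w s := by
      have := hcs.mul_right ((Commute.refl w).zpow_right (-j))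
      rwa [mul_assoc, ← zpow_add, add_neg_cancel, zpow_zero, mul_one] at this
    rw [this.symm.eq, mul_inv_cancel_right] at hi
    have h2 : orderOf w = 2 := orderOf_eq_prime (by rw [sq]; nth_rw 2 [hi]; exact mul_inv_cancel w) hw1
    rw [h2] at hodd
    exact Nat.not_odd_iff_even.2 even_two hodd

/-- A four-group is self-centralising. -/
theorem SelfCent.klein (h : SelfCent G) {t s : G} (ht : orderOf t = 2) (hs : orderOf s = 2)
    (hst : Commute s t) (hne : s ≠ t) :
    ∃ V : Subgroup G, Nat.card V = 4 ∧ t ∈ V ∧ s ∈ V ∧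
      ∀ x : G, Commute x s → Commute x t → x ∈ V := by
  haveI : Fact (Nat.Prime 2) := ⟨Nat.prime_two⟩
  have hn : s ∉ zpowers t := by
    intro hm
    rw [← IsOfFinOrder.mem_powers_iff_mem_zpowers (isOfFinOrder_of_finite t)] at hm
    obtain ⟨i, hi⟩ := hm
    have hi : t ^ i = s := hi
    rw [← pow_mod_orderOf, ht] at hi
    rcases Nat.mod_two_eq_zero_or_one i with h2 | h2 <;> rw [h2] at hi
    · rw [pow_zero] at hi
      rw [← hi, orderOf_one] at hs
      omega
    · exact hne (by rw [← hi, pow_one])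
  obtain ⟨V, hV, -, hncy, htV, hsV, helts⟩ := H59.CIT.exists_sq_subgroup Nat.prime_two ht hs hst.symm hn
  refine ⟨V, by rw [hV]; norm_num, htV, hsV, fun x hxs hxt => h V hncy (mem_centralizer_iff.2 ?_)⟩
  intro y hy
  obtain ⟨i, j, -, -, rfl⟩ := helts y hy
  exact ((hxt.symm.pow_left i).mul_left (hxs.symm.pow_left j)).eq

/-- An odd-order element centralising an involution `t` is trivial, if `t` commutes with another
involution. -/
theorem SelfCent.centralizer_isPGroup (h : SelfCent G) {t s₀ : G} (ht : orderOf t = 2)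
    (hs₀ : orderOf s₀ = 2) (hc₀ : Commute s₀ t) (hne₀ : s₀ ≠ t) :
    IsPGroup 2 (centralizer ({t} : Set G)) := by
  classical
  haveI : Fact (Nat.Prime 2) := ⟨Nat.prime_two⟩
  set C := centralizer ({t} : Set G) with hC
  set R := (Cfsg.pCore 2 C).map C.subtype with hR
  have hRp : IsPGroup 2 R := (H1.isPGroup_pCore 2 C).map _
  haveI hn : (Cfsg.pCore 2 C).Normal := H1.pCore_normal' 2 C
  have htC : t ∈ C := mem_centralizer_singleton_iff.2 rfl
  -- the involutions of `C` lie in its 2-core
  have hin : ∀ s : G, orderOf s = 2 → Commute s t → s ≠ t → s ∈ R := by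
    intro s hs hst hne
    have hsC : s ∈ C := mem_centralizer_singleton_iff.2 hst
    by_contra hsR
    obtain ⟨w, hwp, hwo, hw⟩ := H11.CIT.exists_inverted (a := (⟨s, hsC⟩ : C))
      (by rw [← orderOf_coe]; exact hs) (fun hm => hsR ⟨_, hm, rfl⟩)
    exact h.no_inverted ht hs hst (mem_centralizer_singleton_iff.1 w.2) (by rwa [orderOf_coe])
      (fun h1 => hwp.ne_one (orderOf_eq_one_iff.2 (Subtype.ext h1))) hne (congrArg Subtype.val hw)
  have hRC : R ≤ C := map_subtype_le _
  have hs₀R := hin s₀ hs₀ hc₀ hne₀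
  obtain ⟨V₀, hV₀, htV₀, hsV₀, hmax₀⟩ := h.klein ht hs₀ hc₀ hne₀
  -- `t` lies in the 2-core
  have htR : t ∈ R := by
    refine ⟨⟨t, htC⟩, ?_, rfl⟩
    haveI : (zpowers (⟨t, htC⟩ : C)).Normal := by
      refine ⟨fun n hn g => ?_⟩
      obtain ⟨i, rfl⟩ := hn
      refine ⟨i, ?_⟩
      simp only
      rw [← conj_zpow]
      congr 1
      refine Subtype.ext ?_
      show t = (g : G) * t * (g : G)⁻¹
      rw [mem_centralizer_singleton_iff.1 g.2, mul_inv_cancel_right]
    refine H1.le_pCore (N := zpowers (⟨t, htC⟩ : C)) (IsPGroup.of_card (n := 1) ?_) (mem_zpowers _)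
    rw [Nat.card_zpowers, ← orderOf_coe, pow_one]
    exact ht
  -- the involutions of the core other than `t`
  let I : Set G := {s | s ∈ R ∧ orderOf s = 2 ∧ s ≠ t}
  have hRcomm : ∀ r ∈ R, Commute r t := fun r hr => mem_centralizer_singleton_iff.1 (hRC hr)
  have hmem : ∀ x : G, Commute x t → (∀ r ∈ R, x * r * x⁻¹ ∈ R) → ∀ s ∈ I, x * s * x⁻¹ ∈ I := by
    rintro x hxt hxR s ⟨hsR, hs2, hsne⟩
    refine ⟨hxR s hsR, ?_, fun he => hsne ?_⟩
    · rw [show x * s * x⁻¹ = MulAut.conj x s from rfl, MulEquiv.orderOf_eq, hs2]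
    · rw [show s = x⁻¹ * (x * s * x⁻¹) * x by group, he, mul_assoc, ← hxt.eq, ← mul_assoc, inv_mul_cancel,
        one_mul]
  -- two involutions of `R` rarely have an involution as product
  have hIsmall : 2 * I.ncard ≤ Nat.card R := by
    let J : Set G := {x | x ∈ R ∧ x * x = 1}
    let J' : Set G := (fun x => s₀ * x) '' J
    have hJ'sub : J' ⊆ (R : Set G) := by
      rintro _ ⟨x, hx, rfl⟩
      exact R.mul_mem hs₀R hx.1
    have hJI : I.ncard + 2 ≤ J.ncard := by
      have hsub : insert 1 (insert t I) ⊆ J := by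
        rintro x (rfl | rfl | ⟨hxR, hx2, -⟩)
        · exact ⟨R.one_mem, by simp⟩
        · exact ⟨htR, by rw [← sq, ← ht, pow_orderOf_eq_one]⟩
        · exact ⟨hxR, by rw [← sq, ← hx2, pow_orderOf_eq_one]⟩
      refine le_trans ?_ (Set.ncard_le_ncard hsub (Set.toFinite _))
      rw [Set.ncard_insert_of_notMem, Set.ncard_insert_of_notMem]
      · exact fun hm => hm.2.2 rfl
      · rintro (h1 | ⟨-, h1, -⟩)
        · rw [← h1, orderOf_one] at ht; omega
        · rw [orderOf_one] at h1; omega
    have hinter : J ∩ J' ⊆ (V₀ : Set G) := by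
      rintro y ⟨⟨hyR, hy⟩, ⟨x, ⟨hxR, hx⟩, rfl⟩⟩
      have hss : s₀ * s₀ = 1 := by rw [← sq, ← hs₀, pow_orderOf_eq_one]
      have hxs : Commute x s₀ := by
        have h1 : s₀ * x = (s₀ * x)⁻¹ := (inv_eq_of_mul_eq_one_right hy).symm
        rw [mul_inv_rev, inv_eq_of_mul_eq_one_right hx, inv_eq_of_mul_eq_one_right hss] at h1
        exact h1.symm
      exact hmax₀ _ ((Commute.refl s₀).mul_left hxs) (hRcomm _ (R.mul_mem hs₀R hxR))
    have h1 := Set.ncard_union_add_ncard_inter J J' (Set.toFinite _) (Set.toFinite _)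
    have h2 : J'.ncard = J.ncard := Set.ncard_image_of_injective _ (mul_right_injective _)
    have h3 : (J ∪ J').ncard ≤ Nat.card R := by
      rw [← SetLike.coe_sort_coe, Nat.card_coe_set_eq]
      exact Set.ncard_le_ncard (Set.union_subset (fun x hx => hx.1) hJ'sub) (Set.toFinite _)
    have h4 : (J ∩ J').ncard ≤ 4 := by
      rw [← hV₀, ← SetLike.coe_sort_coe, Nat.card_coe_set_eq]
      exact Set.ncard_le_ncard hinter (Set.toFinite _)
    omega
  -- their number is a multiple of `|R| / 4`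
  have hIdvd : Nat.card R ∣ 4 * I.ncard := by
    letI act : MulAction R I :=
      { smul := fun r s => ⟨(r : G) * s * (r : G)⁻¹, hmem r (hRcomm r r.2)
          (fun x hx => R.mul_mem (R.mul_mem r.2 hx) (R.inv_mem r.2)) s s.2⟩
        one_smul := fun s => Subtype.ext
          (show ((1 : R) : G) * (s : G) * ((1 : R) : G)⁻¹ = s by simp)
        mul_smul := fun a b s => Subtype.ext
          (show ((a * b : R) : G) * (s : G) * ((a * b : R) : G)⁻¹
            = (a : G) * ((b : G) * s * (b : G)⁻¹) * (a : G)⁻¹ by simp [mul_assoc]) }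
    have hstab : ∀ s : I, Nat.card (MulAction.stabilizer R s) = 4 := by
      rintro ⟨s, hsR, hs2, hsne⟩
      obtain ⟨V, hV, htV, hsV, hmax⟩ := h.klein ht hs2 (hRcomm s hsR) hsne
      have hVR : V ≤ R := by
        intro x hx
        by_cases hxt : x = t
        · exact hxt ▸ htR
        by_cases hx1 : x = 1
        · exact hx1 ▸ R.one_mem
        haveI : IsMulCommutative V :=
          IsPGroup.isMulCommutative_of_card_eq_prime_sq (p := 2) (by rw [hV]; norm_num)
        have hxc : ∀ v ∈ V, Commute x v := fun v hv =>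
          congrArg Subtype.val (mul_comm' (⟨x, hx⟩ : V) ⟨v, hv⟩)
        refine hin x ?_ (hxc t htV) hxt
        refine orderOf_eq_prime ?_ hx1
        have hd : orderOf x ∣ 4 := hV ▸ V.orderOf_dvd_natCard hx
        by_contra hx2
        -- otherwise `x` has order 4 and `V` is cyclic
        have h4 : orderOf x = 4 := by
          rcases (Nat.dvd_prime_pow Nat.prime_two).1 (show orderOf x ∣ 2 ^ 2 from hd) with ⟨k, hk, he⟩
          interval_cases k
          · exact absurd (orderOf_eq_one_iff.1 he) hx1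
          · exact absurd (by rw [show 2 = orderOf x from he.symm, pow_orderOf_eq_one]) hx2
          · exact he
        have hVz : zpowers x = V := eq_of_le_of_card_ge (zpowers_le.2 hx)
          (by rw [Nat.card_zpowers, h4, hV])
        have ht2 := htV
        have hs2' := hsV
        rw [← hVz, ← IsOfFinOrder.mem_powers_iff_mem_zpowers (isOfFinOrder_of_finite x)] at ht2 hs2'
        obtain ⟨a, ha⟩ := ht2
        obtain ⟨b, hb⟩ := hs2'
        simp only at ha hb
        have hkey : ∀ c : ℕ, ∀ z : G, x ^ c = z → orderOf z = 2 → z = x ^ 2 := by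
          intro c z hc hz
          rw [← hc, ← pow_mod_orderOf, h4] at hz ⊢
          have : c % 4 < 4 := Nat.mod_lt _ (by norm_num)
          interval_cases hcm : c % 4
          · rw [pow_zero, orderOf_one] at hz; omega
          · rw [pow_one, h4] at hz; omega
          · rfl
          · rw [orderOf_pow' _ (by norm_num), h4] at hz; norm_num at hz
        exact hsne ((hkey b s hb hs2).trans (hkey a t ha ht).symm)
      rw [← hV]
      refine Nat.card_eq_of_bijective (fun r => (⟨((r.1 : R) : G), ?_⟩ : V)) ⟨?_, ?_⟩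
      · have h2 : ((r.1 : R) : G) * s * ((r.1 : R) : G)⁻¹ = s :=
          congrArg Subtype.val (MulAction.mem_stabilizer_iff.1 r.2)
        exact hmax _ (mul_inv_eq_iff_eq_mul.1 h2) (hRcomm _ r.1.2)
      · exact fun a b hab => Subtype.ext (Subtype.ext (congrArg (fun v : V => (v : G)) hab))
      · rintro ⟨v, hv⟩
        refine ⟨⟨⟨v, hVR hv⟩, MulAction.mem_stabilizer_iff.2 (Subtype.ext ?_)⟩, rfl⟩
        show v * s * v⁻¹ = s
        have hcV := (IsPGroup.isMulCommutative_of_card_eq_prime_sq (p := 2) (G := V)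
          (by rw [hV]; norm_num)).is_comm.comm
        rw [show v * s = s * v from congrArg Subtype.val (hcV ⟨v, hv⟩ ⟨s, hsV⟩), mul_inv_cancel_right]
    have := Fintype.ofFinite (MulAction.orbitRel.Quotient R I)
    rw [← Nat.card_coe_set_eq, Nat.card_congr (MulAction.selfEquivSigmaOrbits R I), Nat.card_sigma,
      Finset.mul_sum]
    refine Finset.dvd_sum fun ω _ => dvd_of_eq ?_
    rw [← Nat.card_congr (MulAction.orbitProdStabilizerEquivGroup R ω.out), Nat.card_prod, hstab, mul_comm]
  have hIne : I.Nonempty := ⟨s₀, hs₀R, hs₀, hne₀⟩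
  have hIpos : 0 < I.ncard := (Set.ncard_pos (Set.toFinite _)).2 hIne
  obtain ⟨n, hn2⟩ := hRp.exists_card_eq
  obtain ⟨c, hc⟩ := hIdvd
  have hc2 : c = 1 ∨ c = 2 := by
    have h8 : Nat.card R * c ≤ Nat.card R * 2 := by omega
    have := Nat.le_of_mul_le_mul_left h8 Nat.card_pos
    rcases Nat.eq_zero_or_pos c with rfl | hc0
    · omega
    · omega
  have hI2 : ∀ r : ℕ, r.Prime → r ∣ I.ncard → r = 2 := by
    intro r hr hd
    have hd' : r ∣ 2 ^ (n + 1) := by
      refine dvd_trans (hd.trans (dvd_mul_left _ 4)) ?_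
      rw [hc, hn2, pow_succ]
      rcases hc2 with rfl | rfl
      · exact mul_dvd_mul_left _ (one_dvd _)
      · exact dvd_rfl
    exact (Nat.prime_dvd_prime_iff_eq hr Nat.prime_two).1 (hr.dvd_of_dvd_pow hd')
  -- conclusion
  rw [IsPGroup.iff_card]
  refine ⟨_, Nat.eq_prime_pow_of_unique_prime_dvd Nat.card_pos.ne' fun {r} hr hrd => ?_⟩
  by_contra hr2
  haveI := Fact.mk hr
  obtain ⟨y, hy⟩ := exists_prime_orderOf_dvd_card' r hrd
  rw [← orderOf_coe] at hy
  have hyt : Commute (y : G) t := mem_centralizer_singleton_iff.1 y.2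
  have hnorm : ∀ z : C, ∀ x ∈ R, (z : G) * x * (z : G)⁻¹ ∈ R := by
    rintro z _ ⟨x, hx, rfl⟩
    exact ⟨z * x * z⁻¹, hn.conj_mem x hx z, rfl⟩
  letI act2 : MulAction (zpowers y) I :=
    { smul := fun z s => ⟨((z : C) : G) * s * ((z : C) : G)⁻¹,
        hmem _ (mem_centralizer_singleton_iff.1 z.1.2) (hnorm _) s s.2⟩
      one_smul := fun s => Subtype.ext
        (show (((1 : zpowers y) : C) : G) * (s : G) * (((1 : zpowers y) : C) : G)⁻¹ = s by simp)
      mul_smul := fun a b s => Subtype.ext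
        (show (((a * b : zpowers y) : C) : G) * (s : G) * (((a * b : zpowers y) : C) : G)⁻¹
          = ((a : C) : G) * (((b : C) : G) * s * ((b : C) : G)⁻¹) * ((a : C) : G)⁻¹ by simp [mul_assoc]) }
  have hpg : IsPGroup r (zpowers y) := IsPGroup.of_card (n := 1)
    (by rw [Nat.card_zpowers, ← orderOf_coe, hy, pow_one])
  obtain ⟨⟨s, hsR, hs2, hsne⟩, hfix⟩ := hpg.nonempty_fixed_point_of_prime_not_dvd_card I
    (by rw [Nat.card_coe_set_eq]; exact fun hd => hr2 (hI2 r hr hd))
  have hys : (y : G) * s * (y : G)⁻¹ = s :=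
    congrArg Subtype.val (hfix ⟨y, mem_zpowers y⟩)
  obtain ⟨V, hV, -, -, hmax⟩ := h.klein ht hs2 (hRcomm s hsR) hsne
  have hd : orderOf (y : G) ∣ 2 ^ 2 := by
    have := V.orderOf_dvd_natCard (hmax _ (mul_inv_eq_iff_eq_mul.1 hys) hyt)
    rwa [hV] at this
  rw [hy] at hd
  exact hr2 ((Nat.prime_dvd_prime_iff_eq hr Nat.prime_two).1 (hr.dvd_of_dvd_pow hd))

/-- A simple nonabelian group with self-centralising noncyclic subgroups is a CIT-group. -/
theorem SelfCent.isCIT [IsSimpleGroup G] (h : SelfCent G) (hG : ¬ IsMulCommutative G) :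
    H11.CIT.IsCIT G := by
  haveI : Fact (Nat.Prime 2) := ⟨Nat.prime_two⟩
  intro t ht
  suffices ∃ s : G, orderOf s = 2 ∧ Commute s t ∧ s ≠ t by
    obtain ⟨s, hs, hc, hne⟩ := this
    exact h.centralizer_isPGroup ht hs hc hne
  have hcy : ¬ IsCyclic G := fun hc => hG ⟨⟨fun a b => by
    haveI := hc; exact IsCyclic.commGroup.mul_comm a b⟩⟩
  obtain ⟨E, hE⟩ := H3.KleinFour.exists_kleinFour (fun H => H16.FT.oddOrderSolvable H) hcy
  obtain ⟨S, hS⟩ := (IsPGroup.of_card (n := 1) (G := zpowers t)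
    (by rw [Nat.card_zpowers, ht, pow_one])).exists_le_sylow
  have htS : t ∈ (S : Subgroup G) := hS (mem_zpowers t)
  haveI : Nontrivial (S : Subgroup G) := ⟨⟨t, htS⟩, 1, fun he => by
    have : t = 1 := congrArg Subtype.val he
    rw [this, orderOf_one] at ht
    omega⟩
  haveI := S.isPGroup'.center_nontrivial
  obtain ⟨n, hn, hZ⟩ := (S.isPGroup'.to_subgroup (center (S : Subgroup G))).nontrivial_iff_card.1
    inferInstance
  obtain ⟨⟨z, hzc⟩, hz⟩ := exists_prime_orderOf_dvd_card' (G := center (S : Subgroup G)) 2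
    (hZ ▸ dvd_pow_self 2 hn.ne')
  rw [← orderOf_coe, ← orderOf_coe] at hz
  have hzcomm : ∀ x ∈ (S : Subgroup G), Commute x (z : G) := fun x hx =>
    congrArg Subtype.val (mem_center_iff.1 hzc ⟨x, hx⟩)
  by_cases hzt : (z : G) = t
  · obtain ⟨g, hg⟩ : ∃ g : G, E.map (MulAut.conj g).toMonoidHom ≤ S := by
      have hEp : IsPGroup 2 E := IsPGroup.of_card (n := 2) (by rw [hE.card_four]; norm_num)
      obtain ⟨T, hT⟩ := hEp.exists_le_sylow
      obtain ⟨g, hg⟩ := MulAction.exists_smul_eq G T S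
      refine ⟨g, ?_⟩
      rw [← hg, Sylow.coe_subgroup_smul]
      rintro _ ⟨x, hx, rfl⟩
      exact smul_mem_pointwise_smul _ _ _ (hT hx)
    set E' := E.map (MulAut.conj g).toMonoidHom
    have hc' : Nat.card E' = 4 := by rw [card_map_of_injective (MulAut.conj g).injective, hE.card_four]
    obtain ⟨s, hsE, hs1, hst⟩ : ∃ s ∈ E', s ≠ 1 ∧ s ≠ t := by
      by_contra hcon
      push Not at hcon
      have hsub : (E' : Set G) ⊆ {1, t} := fun s hs => by
        by_cases h1 : s = 1
        · exact Or.inl h1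
        · exact Or.inr (hcon s hs h1)
      have := Set.ncard_le_ncard hsub (Set.toFinite _)
      rw [← Nat.card_coe_set_eq, SetLike.coe_sort_coe, hc'] at this
      have h2 : ({1, t} : Set G).ncard ≤ 2 := by
        refine le_trans (Set.ncard_insert_le _ _) ?_
        rw [Set.ncard_singleton]
      omega
    refine ⟨s, orderOf_eq_prime ?_ hs1, hzt ▸ hzcomm s (hg hsE), hst⟩
    obtain ⟨x, hx, rfl⟩ := hsE
    haveI := hE
    have hx2 : (⟨x, hx⟩ : E) ^ 2 = 1 := by
      rw [← hE.exponent_two]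
      exact Monoid.pow_exponent_eq_one _
    rw [← map_pow, show x ^ 2 = 1 from congrArg Subtype.val hx2, map_one]
  · exact ⟨z, hz, (hzcomm t htS).symm, hzt⟩

end H59.SCN
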