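import Cfsg.Agent.H59.SCN.Forward
import Cfsg.Agent.H59.CIT.SimpleFacts
import Cfsg.Agent.H41.PSL2ClassSize
import Cfsg.Agent.H39.InvolTor

/-!
The simple groups in which every noncyclic subgroup contains its centraliser (from the
classification of simple groups with 2-group involution centralisers).
-/

set_option autoImplicit false
set_option linter.style.haveILetI false
set_option linter.unusedSectionVars false

namespace H59.SCN

open Subgroup

universe u

variable {G : Type u} [Group G] [Finite G]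

theorem SelfCent.of_equiv {H : Type*} [Group H] (h : SelfCent G) (e : G ≃* H) : SelfCent H := by
  intro K hK x hx
  have h1 : e.symm x ∈ centralizer ((K.map e.symm.toMonoidHom : Subgroup G) : Set G) := by
    refine mem_centralizer_iff.2 ?_
    rintro _ ⟨k, hk, rfl⟩
    show e.symm k * e.symm x = e.symm x * e.symm k
    rw [← map_mul, ← map_mul, mem_centralizer_iff.1 hx k hk]
  obtain ⟨k, hk, hkx⟩ := h (K.map e.symm.toMonoidHom) (fun hc => hK (by
    have f := K.equivMapOfInjective e.symm.toMonoidHom e.symm.injective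
    exact isCyclic_of_surjective f.symm f.symm.surjective)) h1
  exact e.symm.injective hkx ▸ hk

/-- An abelian subgroup of exponent two has order at most four. -/
theorem SelfCent.card_le_four (h : SelfCent G) (B : Subgroup G) (hc : IsMulCommutative B)
    (h2 : ∀ x ∈ B, x * x = 1) : Nat.card B ≤ 4 := by
  haveI : Fact (Nat.Prime 2) := ⟨Nat.prime_two⟩
  by_cases h3 : ∃ x ∈ B, x ≠ 1 ∧ ∃ y ∈ B, y ≠ 1 ∧ y ≠ x
  · obtain ⟨x, hx, hx1, y, hy, hy1, hyx⟩ := h3
    have ho : ∀ z ∈ B, z ≠ 1 → orderOf z = 2 := fun z hz hz1 =>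
      orderOf_eq_prime (by rw [sq, h2 z hz]) hz1
    have hcm : ∀ a ∈ B, ∀ b ∈ B, Commute a b := fun a ha b hb =>
      congrArg Subtype.val (hc.is_comm.comm (⟨a, ha⟩ : B) ⟨b, hb⟩)
    obtain ⟨V, hV, -, -, hmax⟩ := h.klein (ho x hx hx1) (ho y hy hy1) (hcm y hy x hx) hyx
    rw [← hV]
    exact Subgroup.card_le_of_le fun b hb => hmax b (hcm b hb y hy) (hcm b hb x hx)
  · push Not at h3
    by_cases hb : ∃ x ∈ B, x ≠ 1
    · obtain ⟨x, hx, hx1⟩ := hb
      have hsub : (B : Set G) ⊆ {1, x} := fun y hy => by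
        by_cases hy1 : y = 1
        · exact Or.inl hy1
        · exact Or.inr (h3 x hx hx1 y hy hy1)
      have h5 := Set.ncard_le_ncard hsub (Set.toFinite _)
      rw [← Nat.card_coe_set_eq, SetLike.coe_sort_coe] at h5
      have : ({1, x} : Set G).ncard ≤ 2 := by
        refine le_trans (Set.ncard_insert_le _ _) ?_
        rw [Set.ncard_singleton]
      omega
    · push Not at hb
      rw [(Subgroup.eq_bot_iff_forall B).2 hb, card_bot]
      norm_num

/-- A third transvection. -/
def t34₃ : H59.CIT.SL34 := ⟨!![1, 0, 0; 0, 1, 1; 0, 0, 1], by decide +kernel⟩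

theorem t34₃_basic :
    H59.CIT.ScalarEq (t34₃ * t34₃) 1 ∧
      H59.CIT.ScalarEq (H59.CIT.t34₁ * t34₃) (t34₃ * H59.CIT.t34₁) ∧
      H59.CIT.ScalarEq (H59.CIT.t34₂ * t34₃) (t34₃ * H59.CIT.t34₂) ∧
      ¬ H59.CIT.ScalarEq t34₃ 1 ∧ ¬ H59.CIT.ScalarEq t34₃ H59.CIT.t34₁ ∧
      ¬ H59.CIT.ScalarEq t34₃ H59.CIT.t34₂ ∧
      ¬ H59.CIT.ScalarEq t34₃ (H59.CIT.t34₁ * H59.CIT.t34₂) := by
  decide +kernel

theorem not_selfCent_psl34 {F : Type*} [Field F] [Fintype F] (hF : Fintype.card F = 4) :
    ¬ SelfCent (Matrix.ProjectiveSpecialLinearGroup (Fin 3) F) := by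
  intro h
  obtain ⟨e⟩ := H59.CIT.exists_k4_equiv hF
  obtain ⟨h33, h13, h23, n3, n31, n32, n312⟩ := t34₃_basic
  obtain ⟨h1, h2, hc, n1, n2, n21, -⟩ := H59.CIT.sl34_basic
  rw [← H59.CIT.phi34_eq_iff e] at h1 h2 hc n1 n2 n21 h33 h13 h23 n3 n31 n32 n312
  simp only [map_mul, map_one] at h1 h2 hc n1 n2 h33 h13 h23 n3 n312
  haveI : Fact (Nat.Prime 2) := ⟨Nat.prime_two⟩
  have ho : ∀ x : Matrix.ProjectiveSpecialLinearGroup (Fin 3) F, x * x = 1 → x ≠ 1 → orderOf x = 2 :=
    fun x hx hx1 => orderOf_eq_prime (by rw [sq, hx]) hx1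
  obtain ⟨V, hV, hxV, hyV, hmax⟩ := h.klein (ho _ h1 n1) (ho _ h2 n2) hc.symm n21
  have hz := hmax (H59.CIT.phi34 e t34₃) h23.symm h13.symm
  set x := H59.CIT.phi34 e H59.CIT.t34₁
  set y := H59.CIT.phi34 e H59.CIT.t34₂
  set z := H59.CIT.phi34 e t34₃
  have hxy1 : x * y ≠ 1 := fun h0 => n21 (mul_left_cancel (h0.trans h1.symm))
  have hne1 : x * y ≠ x := fun h0 => n2 (mul_left_cancel (h0.trans (mul_one x).symm))
  have hne2 : x * y ≠ y := fun h0 => n1 (mul_right_cancel (h0.trans (one_mul y).symm))
  have hsub : ({1, x, y, x * y, z} : Set _) ⊆ (V : Set _) := by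
    rintro w (rfl | rfl | rfl | rfl | rfl)
    exacts [V.one_mem, hxV, hyV, V.mul_mem hxV hyV, hz]
  have := Set.ncard_le_ncard hsub (Set.toFinite _)
  rw [show (V : Set (Matrix.ProjectiveSpecialLinearGroup (Fin 3) F)).ncard = 4 from
    (Nat.card_coe_set_eq _).symm.trans hV] at this
  rw [Set.ncard_insert_of_notMem (by simp [Ne.symm n1, Ne.symm n2, Ne.symm hxy1, Ne.symm n3]),
    Set.ncard_insert_of_notMem (by simp [Ne.symm n21, Ne.symm hne1, Ne.symm n31]),
    Set.ncard_insert_of_notMem (by simp [Ne.symm hne2, Ne.symm n32]),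
    Set.ncard_pair (Ne.symm n312)] at this
  omega

theorem not_selfCent_sz {F : Type*} [Field F] [Fintype F] {m : ℕ} (hm : 1 ≤ m)
    (hF : Fintype.card F = 2 ^ (2 * m + 1)) : ¬ SelfCent (Cfsg.Sz F m) := by
  intro h
  set B := (H57.zSub (m := m) hF).map (H57.tSub (m := m) hF).subtype
  have hB : ∀ x ∈ B, ∃ b, x = H57.tEl hF 0 b := by
    rintro _ ⟨g, ⟨b, hb⟩, rfl⟩
    exact ⟨b, hb⟩
  have hmul : ∀ b d : F, H57.tEl (m := m) hF 0 b * H57.tEl hF 0 d = H57.tEl hF 0 (b + d) := by
    intro b d
    rw [H57.tEl_mul, add_zero, H57.th_zero, zero_mul, add_zero]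
  have hc : IsMulCommutative B := ⟨⟨fun a b => Subtype.ext (by
    obtain ⟨c, hc⟩ := hB a a.2
    obtain ⟨d, hd⟩ := hB b b.2
    rw [coe_mul, coe_mul, hc, hd, hmul, hmul, add_comm])⟩⟩
  have h2 : ∀ x ∈ B, x * x = 1 := fun x hx => by
    obtain ⟨c, rfl⟩ := hB x hx
    rw [hmul, show c + c = 0 by rw [← two_mul, H57.two_eq_zero hF, zero_mul], H57.tEl_zero]
  have := h.card_le_four B hc h2
  rw [card_map_of_injective (H57.tSub (m := m) hF).subtype_injective, H57.card_zSub hF] at this
  have : 2 ^ 3 ≤ 2 ^ (2 * m + 1) := Nat.pow_le_pow_right (by norm_num) (by omega)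
  omega

variable {F : Type*} [Field F] [Fintype F]

theorem card_le_four_of_even (h : SelfCent (Matrix.ProjectiveSpecialLinearGroup (Fin 2) F)) {n : ℕ}
    (hn : 1 ≤ n) (hF : Fintype.card F = 2 ^ n) : 2 ^ n ≤ 4 := by
  obtain ⟨p, hpc⟩ := CharP.exists F
  haveI := Fact.mk (CharP.char_is_prime F p)
  have hp : p = 2 := by
    obtain ⟨k, -, hk⟩ := FiniteField.card F p
    have : p ∣ 2 ^ n := hF ▸ hk ▸ dvd_pow_self p k.ne_zero
    exact (Nat.prime_dvd_prime_iff_eq Fact.out Nat.prime_two).1 (Nat.Prime.dvd_of_dvd_pow Fact.out this)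
  subst hp
  set x := H39.transl (1 : F)
  have hx : x ≠ 1 := H39.transl_ne_one one_ne_zero
  have hxp : x ^ 2 = 1 := by
    rw [← H39.mult_eq_one_iff 2 (H39.transl_mem_borelP _), H39.mult_transl]
  have := h.card_le_four (H39.tor x) ⟨⟨fun a b => Subtype.ext (H39.tor_comm hx a.2 b.2).eq⟩⟩
    fun y hy => by rw [← sq]; exact H39.tor_pow_char 2 hx hxp hy
  rwa [H39.card_tor_transl, hF] at this

theorem isCyclic_le {G : Type*} [Group G] {H K : Subgroup G} (hle : H ≤ K) (hK : IsCyclic K) :
    IsCyclic H := by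
  haveI := hK
  exact isCyclic_of_injective (inclusion hle) (inclusion_injective hle)

/-- `PSL₂(q)` for `q = 4, 9` or a Fermat or Mersenne prime. -/
theorem selfCent_psl2 (hF : Fintype.card F = 4 ∨ Fintype.card F = 9 ∨ ((Fintype.card F).Prime ∧
      ∃ k : ℕ, Fintype.card F = 2 ^ k + 1 ∨ Fintype.card F = 2 ^ k - 1)) :
    SelfCent (Matrix.ProjectiveSpecialLinearGroup (Fin 2) F) := by
  classical
  obtain ⟨p, hpc⟩ := CharP.exists F
  haveI := Fact.mk (CharP.char_is_prime F p)
  set q := Fintype.card F with hq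
  obtain ⟨k, -, hk⟩ := FiniteField.card F p
  have hpq : q = p ∨ q = p ^ 2 := by
    have hd : p ∣ q := by rw [hq, hk]; exact dvd_pow_self p k.ne_zero
    rcases hF with h4 | h9 | ⟨hpr, -⟩
    · right
      rw [h4, show 4 = 2 ^ 2 from rfl] at hd
      rw [h4, (Nat.prime_dvd_prime_iff_eq Fact.out Nat.prime_two).1 (Nat.Prime.dvd_of_dvd_pow Fact.out hd)]
      norm_num
    · right
      rw [h9, show 9 = 3 ^ 2 from rfl] at hd
      rw [h9, (Nat.prime_dvd_prime_iff_eq Fact.out Nat.prime_three).1 (Nat.Prime.dvd_of_dvd_pow Fact.out hd)]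
      norm_num
    · left
      exact ((Nat.prime_dvd_prime_iff_eq Fact.out hpr).1 hd).symm
  intro H hH c hc
  by_cases hc1 : c = 1
  · exact hc1 ▸ H.one_mem
  have hle : H ≤ centralizer ({c} : Set _) := fun x hx =>
    mem_centralizer_singleton_iff.2 (mem_centralizer_iff.1 hc x hx)
  have hcC : c ∈ centralizer ({c} : Set (Matrix.ProjectiveSpecialLinearGroup (Fin 2) F)) :=
    mem_centralizer_singleton_iff.2 rfl
  by_cases hcp : c ^ p = 1
  · have hcard := H41.centralizer_pow_char p hc1 hcp
    rcases hpq with hq' | hq'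
    · haveI : IsCyclic (centralizer ({c} : Set (Matrix.ProjectiveSpecialLinearGroup (Fin 2) F))) :=
        isCyclic_of_prime_card (p := p) (by rw [hcard, ← hq, hq'])
      exact (hH (isCyclic_le hle inferInstance)).elim
    · have hd : Nat.card H ∣ p ^ 2 := by rw [← hq', hq, ← hcard]; exact card_dvd_of_le hle
      obtain ⟨i, hi, he⟩ := (Nat.dvd_prime_pow Fact.out).1 hd
      interval_cases i
      · have hb : H = ⊥ := Subgroup.card_eq_one.1 (by simpa using he)
        exact (hH (by rw [hb]; infer_instance)).elim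
      · exact (hH (isCyclic_of_prime_card (p := p) (by simpa using he))).elim
      · rwa [eq_of_le_of_card_ge hle (by rw [hcard, ← hq, hq', he])]
  · by_cases hc2 : c ^ 2 = 1
    · have hodd : Odd q := by
        rcases Nat.even_or_odd q with he | ho
        · exfalso
          have hp2 : p = 2 := by
            have : 2 ∣ p := by
              rcases hpq with h' | h'
              · exact h' ▸ he.two_dvd
              · exact Nat.prime_two.dvd_of_dvd_pow (h' ▸ he.two_dvd)
            exact ((Nat.prime_dvd_prime_iff_eq Nat.prime_two Fact.out).1 this).symm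
          exact hcp (by rw [hp2]; exact hc2)
        · exact ho
      have hord : orderOf c = 2 := orderOf_eq_prime hc2 hc1
      obtain ⟨j, hj⟩ : ∃ j, Nat.card (H39.tor c) = 2 ^ j := by
        rw [H39.card_tor_invol p hodd hord, ← hq]
        unfold H39.evenHalf
        rcases hF with h4 | h9 | ⟨hpr, k, hk'⟩
        · rw [h4] at hodd; exact absurd hodd (by decide)
        · exact ⟨2, by rw [h9]; norm_num⟩
        · rcases Nat.lt_or_ge k 2 with hk2 | hk2
          · have : q = 3 := by
              have := hpr.two_le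
              obtain ⟨o, ho⟩ := hodd
              interval_cases k <;> omega
            exact ⟨1, by rw [this]; norm_num⟩
          · have h4 : 4 ∣ 2 ^ k := pow_dvd_pow 2 hk2
            have h2k : 2 ^ k = 2 * 2 ^ (k - 1) := by rw [← pow_succ', Nat.sub_add_cancel (by omega)]
            refine ⟨k - 1, ?_⟩
            have : 1 ≤ 2 ^ k := Nat.one_le_two_pow
            split_ifs <;> omega
      have hss := H39.invol_ss p hodd hord
      haveI := H39.tor_isCyclic p hss
      obtain ⟨s, hs, hsT⟩ : ∃ s ∈ H, s ∉ H39.tor c := by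
        by_contra hcon
        push Not at hcon
        exact hH (isCyclic_le (fun x hx => hcon x hx) inferInstance)
      have hN : ∀ x ∈ H, x ∈ normalizer (H39.tor c : Set _) := fun x hx => by
        rw [← H39.centralizer_invol p hodd hord]; exact hle hx
      by_cases hHT : ∃ u ∈ H, u ∈ H39.tor c ∧ u ≠ 1
      · obtain ⟨u, huH, huT, hu1⟩ := hHT
        obtain ⟨i, hi, he⟩ := (Nat.dvd_prime_pow Nat.prime_two).1
          (hj ▸ orderOf_dvd_natCard _ huT)
        have hi0 : i ≠ 0 := by
          rintro rfl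
          exact hu1 (orderOf_eq_one_iff.1 (by rw [he, pow_zero]))
        set w := u ^ 2 ^ (i - 1)
        have hw : orderOf w = 2 := by
          rw [orderOf_pow' _ (pow_ne_zero _ two_ne_zero), he,
            Nat.gcd_eq_right (Nat.pow_dvd_pow 2 (Nat.sub_le i 1)), Nat.pow_div (Nat.sub_le i 1) two_pos,
            show i - (i - 1) = 1 by omega, pow_one]
        rw [← H39.tor_invol_unique p hss ((H39.tor c).pow_mem huT _) (H39.self_mem_tor c) hw hord]
        exact H.pow_mem huH _
      · exfalso
        push Not at hHT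
        have hH2 : ∀ x ∈ H, x = 1 ∨ x = s := by
          intro x hx
          by_cases hxT : x ∈ H39.tor c
          · exact Or.inl (hHT x hx hxT)
          · right
            have hxs : x * s ∈ H39.tor c := by
              by_contra hxsT
              obtain ⟨-, -, h1⟩ := H39.normalizer_outside p hss (hN x hx) hxT
              obtain ⟨-, -, h2⟩ := H39.normalizer_outside p hss (hN s hs) hsT
              obtain ⟨-, -, h3⟩ := H39.normalizer_outside p hss (hN _ (H.mul_mem hx hs)) hxsT
              obtain ⟨y, hy, hy2⟩ : ∃ y ∈ H39.tor c, y * y ≠ 1 := by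
                by_contra hcon
                push Not at hcon
                -- a torus of exponent two has order two
                obtain ⟨g, hg⟩ := IsCyclic.exists_ofOrder_eq_natCard (α := H39.tor c)
                have hg2 : orderOf g ∣ 2 := orderOf_dvd_of_pow_eq_one
                  (Subtype.ext (by rw [coe_pow, sq]; exact hcon g g.2))
                rw [hg] at hg2
                have hC4 := (H39.tor_trichotomy p hss).2.1
                have hCc := H39.centralizer_invol p hodd hord
                have hT2 : Nat.card (H39.tor c) ≤ 2 := Nat.le_of_dvd two_pos hg2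
                have hHcard : Nat.card H ∣ 4 := by
                  refine dvd_trans (card_dvd_of_le hle) ?_
                  rw [hCc, hC4]
                  rcases (Nat.dvd_prime Nat.prime_two).1 hg2 with h | h <;> rw [h] <;> norm_num
                have hH4 : Nat.card H = 4 := by
                  rcases (Nat.dvd_prime_pow Nat.prime_two).1 (show Nat.card H ∣ 2 ^ 2 from hHcard) with ⟨l, hl, hle'⟩
                  interval_cases l
                  · have hb : H = ⊥ := Subgroup.card_eq_one.1 (by simpa using hle')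
                    exact absurd (by rw [hb]; infer_instance) hH
                  · exact absurd (isCyclic_of_prime_card (p := 2) (by simpa using hle')) hH
                  · simpa using hle'
                have hall := eq_of_le_of_card_ge hle (by
                  rw [hCc, hC4, hH4]; omega)
                exact hc1 (hHT c (hall ▸ hcC) (H39.self_mem_tor c))
              have := h3 y hy
              rw [show x * s * y * (x * s)⁻¹ = x * (s * y * s⁻¹) * x⁻¹ by group, h2 y hy,
                show x * y⁻¹ * x⁻¹ = (x * y * x⁻¹)⁻¹ by group, h1 y hy, inv_inv] at this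
              exact hy2 (mul_eq_one_iff_eq_inv.2 this)
            have h1 := hHT _ (H.mul_mem hx hs) hxs
            have h2 : s * s = 1 := by rw [← sq]; exact (H39.normalizer_outside p hss (hN s hs) hsT).1
            exact mul_right_cancel (h1.trans h2.symm)
        haveI : Fact (Nat.Prime 2) := ⟨Nat.prime_two⟩
        refine hH (isCyclic_le (K := zpowers s) (fun x hx => ?_) inferInstance)
        rcases hH2 x hx with rfl | rfl
        · exact one_mem _
        · exact mem_zpowers _
    · rw [H41.centralizer_ss p hcp hc2] at hle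
      haveI := H39.tor_isCyclic p hcp
      exact (hH (isCyclic_le hle inferInstance)).elim

/-- The classification. -/
theorem selfCent_iff (hc : H11.CIT.CITClass.{u}) [IsSimpleGroup G] (hna : ¬ IsMulCommutative G) :
    SelfCent G ↔ ∃ (F : Type) (_ : Field F) (_ : Fintype F),
      (Fintype.card F = 4 ∨ Fintype.card F = 9 ∨ ((Fintype.card F).Prime ∧
        ∃ k : ℕ, Fintype.card F = 2 ^ k + 1 ∨ Fintype.card F = 2 ^ k - 1)) ∧
      Nonempty (G ≃* Matrix.ProjectiveSpecialLinearGroup (Fin 2) F) := by
  constructor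
  · intro h
    rcases hc G hna (h.isCIT hna) with ⟨F, _, _, hF, ⟨e⟩⟩ | ⟨F, _, _, hF, ⟨e⟩⟩ | ⟨F, _, _, m, hm, hF, ⟨e⟩⟩
    · refine ⟨F, inferInstance, inferInstance, ?_, ⟨e⟩⟩
      have hF2 : 2 ≤ Fintype.card F := Fintype.one_lt_card
      rcases hF with h9 | ⟨n, hn⟩ | ⟨hp, k, hk | hk⟩
      · exact Or.inr (Or.inl h9)
      · have hn1 : 1 ≤ n := by
          by_contra h0
          rw [show n = 0 by omega, pow_zero] at hn
          omega
        have h4 := card_le_four_of_even (h.of_equiv e) hn1 hn
        rcases Nat.lt_or_ge n 2 with h | h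
        · rw [show n = 1 by omega] at hn
          exact Or.inr (Or.inr ⟨by rw [hn]; norm_num, 0, Or.inl (by rw [hn]; norm_num)⟩)
        · left
          have : 2 ^ 2 ≤ 2 ^ n := Nat.pow_le_pow_right (by norm_num) h
          omega
      · exact Or.inr (Or.inr ⟨hp, k, Or.inl hk⟩)
      · exact Or.inr (Or.inr ⟨hp, k, Or.inr (by omega)⟩)
    · exact absurd (h.of_equiv e) (not_selfCent_psl34 hF)
    · exact absurd ((h.of_equiv e).of_equiv (H57.lieSzEquiv hm hF).symm) (not_selfCent_sz hm hF)
  · rintro ⟨F, _, _, hF, ⟨e⟩⟩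
    exact (selfCent_psl2 hF).of_equiv e.symm

end H59.SCN
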